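import Groth.Agent.CInt.K139.FibDimBC
import Groth.Agent.Etcore.DimBaseChange
import Groth.Agent.Pi1.H538.SepStep

/-!
# Dimension and genus of the fibres under base change
-/

set_option autoImplicit false
universe u
open CategoryTheory CategoryTheory.Limits AlgebraicGeometry TopologicalSpace

namespace K903.FibInv

open Groth.Agent Groth.Agent.Ega4dB.CIFibre

variable {P X S' S : Scheme.{u}} {fst : P ⟶ X} {snd : P ⟶ S'} {f : X ⟶ S} {g : S' ⟶ S} (h : IsPullback fst snd f g)

include h in
theorem dim_fiber [LocallyOfFiniteType f] (s' : S') :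
    topologicalKrullDim ↥(snd.fiber s') = topologicalKrullDim ↥(f.fiber (g s')) :=
  Etcore.DimBaseChange.topologicalKrullDim_eq (Field.toIsField _) (Field.toIsField _)
    (f.fiberToSpecResidueField (g s')) (snd.fiberToSpecResidueField s') (fiberBaseChange h s') _
    (isPullback_fiberBaseChange h s')

/-- The genus of a fibre. -/
noncomputable def genusAt {X S : Scheme.{u}} (f : X ⟶ S) (s : S) : ℕ :=
  letI : (f.fiber s).Over (Spec (S.residueField s)) := ⟨f.fiberToSpecResidueField s⟩
  Curv2.genus (S.residueField s) (f.fiber s)

include h in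
theorem genus_fiber [IsProper f] (s' : S') : genusAt snd s' = genusAt f (g s') := by
  let _ : (snd.fiber s').Over (Spec (S'.residueField s')) := ⟨snd.fiberToSpecResidueField s'⟩
  let _ : (f.fiber (g s')).Over (Spec (S.residueField (g s'))) := ⟨f.fiberToSpecResidueField (g s')⟩
  have : IsProper ((f.fiber (g s')) ↘ (Spec (CommRingCat.of (S.residueField (g s'))))) :=
    inferInstanceAs (IsProper (pullback.snd f (S.fromSpecResidueField (g s'))))
  exact Pi1.H538.SepStep.genus_eq (i := (g.residueFieldMap s').hom) (isPullback_fiberBaseChange h s')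

end K903.FibInv
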