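import Groth.Agent.Curves.K903.AutUnr
import Groth.Agent.Curves.K903.FibInv
import Groth.Agent.S2335
import Groth.Agent.Ega1.LocalSubringField

/-!
# The automorphism scheme of a family of smooth curves is proper
-/

set_option autoImplicit false
universe u
open CategoryTheory CategoryTheory.Limits MonoidalCategory CartesianMonoidalCategory MonObj GrpObj AlgebraicGeometry

namespace K903.AutProper

open AutSch K903.AutUnr K903.FibInv Groth.Agent

/-- Isomorphisms of the generic fibres of smooth curves of genus `n` extend (statement of S18894 for `Y = X`). -/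
def Ext (n : ℕ) : Prop :=
  ∀ {R : Type u} [CommRing R] [IsDomain R] [IsDiscreteValuationRing R] {X : Scheme.{u}}
    (f : X ⟶ Spec (CommRingCat.of R)) [IsProper f] [Smooth f] [GeometricallyConnected f]
    (_ : ∀ s : ↥(Spec (CommRingCat.of R)), topologicalKrullDim ↥(f.fiber s) = 1)
    (_ : ∀ s : ↥(Spec (CommRingCat.of R)), genusAt f s = n)
    (j : Spec (CommRingCat.of (FractionRing R)) ⟶ Spec (CommRingCat.of R))
    (_ : j = Spec.map (CommRingCat.ofHom (algebraMap R (FractionRing R))))
    (φ : pullback f j ≅ pullback f j) (_ : φ.hom ≫ pullback.snd f j = pullback.snd f j),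
    ∃ e : X ≅ X, e.hom ≫ f = f ∧ pullback.fst f j ≫ e.hom = φ.hom ≫ pullback.fst f j

theorem isProper {n : ℕ} (H : Ext.{u} n) {S : Scheme.{u}} [IsLocallyNoetherian S] (X G : Over S)
    [IsProper X.hom] [Smooth X.hom] [GeometricallyConnected X.hom]
    (hdim : ∀ s : S, topologicalKrullDim ↥(X.hom.fiber s) = 1) (hgen : ∀ s : S, genusAt X.hom s = n)
    [GrpObj G] [QuasiCompact G.hom] [IsSeparated G.hom] [LocallyOfFiniteType G.hom]
    (a : AlgGrp.Action G X) (hG : AutSch.Represents X G a) : IsProper G.hom := by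
  rw [S2335.result]
  intro A _ _ _ x y hxy
  let j : Spec (CommRingCat.of (FractionRing A)) ⟶ Spec (CommRingCat.of A) :=
    Spec.map (CommRingCat.ofHom (algebraMap A (FractionRing A)))
  let f := pullback.snd X.hom y
  let gK : (Over.map y).obj (Over.mk j) ⟶ G := Over.homMk x hxy
  have hφ : IsIso (endOf (famOf a gK)) := K936.Fam.isAutFamily_famOf a gK
  let c := cmp y X (Over.mk j)
  have hc : IsIso c := isIso_cmp y X (Over.mk j)
  let ψ : (Over.map y).obj ((Over.pullback y).obj X ⊗ Over.mk j) ⟶ (Over.map y).obj ((Over.pullback y).obj X ⊗ Over.mk j) :=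
    c ≫ endOf (famOf a gK) ≫ inv c
  have hψ : IsIso ψ := inferInstance
  let φ' : pullback f j ≅ pullback f j := (Over.forget S).mapIso (asIso ψ)
  have hcs : c ≫ snd _ _ = (Over.map y).map (snd _ _) := lift_snd _ _
  have hcf : c ≫ fst _ _ = low y (fst _ _) := lift_fst _ _
  have hψs : ψ ≫ (Over.map y).map (snd _ _) = (Over.map y).map (snd _ _) := by
    rw [← hcs]
    simp only [ψ, Category.assoc, IsIso.inv_hom_id_assoc, endOf_snd]
  have hψf : ψ ≫ low y (fst _ _) = c ≫ famOf a gK := by
    rw [← hcf]
    simp only [ψ, Category.assoc, IsIso.inv_hom_id_assoc, endOf_fst]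
  obtain ⟨e, he1, he2⟩ := H f (fun s => by rw [dim_fiber (IsPullback.of_hasPullback X.hom y)]; exact hdim _)
    (fun s => by rw [genus_fiber (IsPullback.of_hasPullback X.hom y)]; exact hgen _) j rfl φ'
    congr(($hψs).left)
  let ψR : X ⊗ Over.mk y ⟶ X := Over.homMk (e.hom ≫ pullback.fst X.hom y) (by
    change (e.hom ≫ pullback.fst X.hom y) ≫ X.hom = pullback.fst X.hom y ≫ X.hom
    rw [Category.assoc, pullback.condition, ← Category.assoc]
    exact congr($he1 ≫ y))
  have hR : (endOf ψR).left = e.hom := by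
    apply pullback.hom_ext
    · exact congr(($(endOf_fst ψR)).left)
    · exact (congr(($(endOf_snd ψR)).left)).trans he1.symm
  have hRi : IsAutFamily ψR := by
    have h1 : IsIso ((Over.forget S).map (endOf ψR)) := by
      change IsIso (endOf ψR).left
      rw [hR]
      infer_instance
    exact isIso_of_reflects_iso (endOf ψR) (Over.forget S)
  obtain ⟨gR, hgR, -⟩ := hG.2 (Over.mk y) ψR hRi trivial
  let u : (Over.map y).obj (Over.mk j) ⟶ Over.mk y := Over.homMk j
  have hu : (c ≫ (X ◁ u)).left = pullback.fst f j := by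
    apply pullback.hom_ext
    · have h1 : (c ≫ (X ◁ u)) ≫ fst _ _ = low y (fst _ _) := by
        rw [Category.assoc, whiskerLeft_fst, hcf]
      exact congr(($h1).left)
    · have h1 : (c ≫ (X ◁ u)) ≫ snd _ _ = (Over.map y).map (snd _ _) ≫ u := by
        rw [Category.assoc, whiskerLeft_snd, ← hcs, Category.assoc]
      exact (congr(($h1).left)).trans pullback.condition.symm
  have hug : u ≫ gR = gK := by
    refine K936.Fam.famOf_injective a hG ?_
    refine (famOf_comp a u gR).trans ?_
    rw [← cancel_epi c]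
    ext1
    have h1 : (c ≫ (X ◁ u) ≫ famOf a gR).left = (c ≫ (X ◁ u)).left ≫ e.hom ≫ pullback.fst X.hom y := by
      rw [hgR]
      rfl
    refine h1.trans ?_
    rw [hu, ← Category.assoc, he2]
    exact congr(($hψf).left)
  refine ⟨gR.left, ⟨Over.w gR, congr(($hug).left)⟩, ?_⟩
  rintro l ⟨hl1, hl2⟩
  have h2 : j ≫ l = j ≫ gR.left := hl2.trans (congr(($hug).left)).symm
  have hd : IsDominant j := Ega1.LocalSubringField.isDominant_Spec_map _ (IsFractionRing.injective A (FractionRing A))
  exact ext_of_isDominant_of_isSeparated G.hom (hl1.trans (Over.w gR).symm) j h2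

end K903.AutProper
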