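import Groth.Agent.Curves.K903.NoDer
import Groth.Agent.Curves.K903.AutProper
import Groth.Agent.Unram.K147.LQF

/-!
# The automorphism scheme of a smooth curve of genus at least two is finite and unramified
-/

set_option autoImplicit false
universe u
open CategoryTheory CategoryTheory.Limits MonoidalCategory CartesianMonoidalCategory MonObj GrpObj AlgebraicGeometry

namespace K903.AutFinite

open AutSch K903.AutUnr K903.FibInv K903.AutProper Groth.Agent

theorem formallyUnramified {S : Scheme.{u}} (X G : Over S) [IsProper X.hom] [Smooth X.hom]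
    [GeometricallyConnected X.hom] (hdim : ∀ s : S, topologicalKrullDim ↥(X.hom.fiber s) = 1)
    (hgen : ∀ s : S, 2 ≤ genusAt X.hom s) [GrpObj G] [LocallyOfFiniteType G.hom]
    (a : AlgGrp.Action G X) (hG : AutSch.Represents X G a) : FormallyUnramified G.hom := by
  have hC : ∀ s : S, CompactSpace (X.hom.fiber s) := fun s => by
    have : QuasiCompact (X.hom.fiberToSpecResidueField s) :=
      inferInstanceAs (QuasiCompact (pullback.snd X.hom (S.fromSpecResidueField s)))
    exact QuasiCompact.compactSpace_of_compactSpace (X.hom.fiberToSpecResidueField s)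
  have hN : ∀ s : S, IsLocallyNoetherian (X.hom.fiber s) := fun s => by
    have : LocallyOfFiniteType (X.hom.fiberToSpecResidueField s) :=
      inferInstanceAs (LocallyOfFiniteType (pullback.snd X.hom (S.fromSpecResidueField s)))
    exact LocallyOfFiniteType.isLocallyNoetherian (X.hom.fiberToSpecResidueField s)
  refine AutUnr.formallyUnramified a hG hC hN fun s D U x => ?_
  have h1 : IsProper (X.hom.fiberToSpecResidueField s) :=
    inferInstanceAs (IsProper (pullback.snd X.hom (S.fromSpecResidueField s)))
  have h2 : Smooth (X.hom.fiberToSpecResidueField s) :=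
    inferInstanceAs (Smooth (pullback.snd X.hom (S.fromSpecResidueField s)))
  have h3 : GeometricallyConnected (X.hom.fiberToSpecResidueField s) :=
    inferInstanceAs (GeometricallyConnected (pullback.snd X.hom (S.fromSpecResidueField s)))
  exact NoDer.noDer (k := S.residueField s) (X.hom.fiberToSpecResidueField s) (hdim s) (hgen s) D U x

theorem main {n : ℕ} (H : Ext.{u} n) (hn : 2 ≤ n) {S : Scheme.{u}} [IsLocallyNoetherian S] (X G : Over S)
    [IsProper X.hom] [Smooth X.hom] [GeometricallyConnected X.hom]
    (hdim : ∀ s : S, topologicalKrullDim ↥(X.hom.fiber s) = 1) (hgen : ∀ s : S, genusAt X.hom s = n)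
    [GrpObj G] [QuasiCompact G.hom] [IsSeparated G.hom] [LocallyOfFiniteType G.hom]
    (a : AlgGrp.Action G X) (hG : AutSch.Represents X G a) : IsFinite G.hom ∧ FormallyUnramified G.hom := by
  have h1 := formallyUnramified X G hdim (fun s => by rw [hgen s]; exact hn) a hG
  have h2 := isProper H X G hdim hgen a hG
  have h3 := K147.LQF.locallyQuasiFinite_of_unramified G.hom
  exact ⟨IsFinite.of_isProper_of_locallyQuasiFinite _, h1⟩

end K903.AutFinite
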