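import Groth.Agent.AutSch.K936.TanDer
import Groth.Agent.AutSch.K936.Unram
import Groth.Agent.AutSch.K936.Fam
import Groth.Agent.UnramA.FibreFlat

/-!
# The automorphism scheme of a family without vertical derivations on the fibres is unramified
-/

set_option autoImplicit false
universe u
open CategoryTheory CategoryTheory.Limits MonoidalCategory CartesianMonoidalCategory MonObj GrpObj AlgebraicGeometry

namespace K903.AutUnr

open AutSch Groth.Agent.Grpsch.AbTangent

section Adj

variable {S B : Scheme.{u}} (t : B ⟶ S)

noncomputable abbrev low {T : Over B} {G : Over S} (τ : T ⟶ (Over.pullback t).obj G) : (Over.map t).obj T ⟶ G :=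
  ((Over.mapPullbackAdj t).homEquiv T G).symm τ

theorem low_comp {T T' : Over B} {G : Over S} (u : T' ⟶ T) (τ : T ⟶ (Over.pullback t).obj G) :
    low t (u ≫ τ) = (Over.map t).map u ≫ low t τ :=
  (Over.mapPullbackAdj t).homEquiv_naturality_left_symm u τ

theorem low_comp_map {T : Over B} {G H : Over S} (τ : T ⟶ (Over.pullback t).obj G) (f : G ⟶ H) :
    low t (τ ≫ (Over.pullback t).map f) = low t τ ≫ f :=
  (Over.mapPullbackAdj t).homEquiv_naturality_right_symm τ f

theorem low_injective {T : Over B} {G : Over S} {τ τ' : T ⟶ (Over.pullback t).obj G} (h : low t τ = low t τ') :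
    τ = τ' := ((Over.mapPullbackAdj t).homEquiv T G).symm.injective h

theorem low_one {T : Over B} {G : Over S} [GrpObj G] :
    low t (toUnit T ≫ η[(Over.pullback t).obj G]) = (1 : (Over.map t).obj T ⟶ G) := by
  rw [Functor.obj.η_def, ← Category.assoc, low_comp_map, one_eq_one, Hom.one_def]
  congr 1
  exact toUnit_unique _ _

/-- `(X_B ⊗ T)` over `S` is `X ⊗ T`. -/
noncomputable def cmp (X : Over S) (T : Over B) :
    (Over.map t).obj ((Over.pullback t).obj X ⊗ T) ⟶ X ⊗ (Over.map t).obj T :=
  lift (low t (fst _ _)) ((Over.map t).map (snd _ _))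

theorem low_left {T : Over B} {G : Over S} (τ : T ⟶ (Over.pullback t).obj G) :
    (low t τ).left = τ.left ≫ pullback.fst G.hom t := rfl

theorem isIso_cmp (X : Over S) (T : Over B) : IsIso (cmp t X T) := by
  have h : (cmp t X T).left = (pullbackLeftPullbackSndIso X.hom t T.hom).hom := by
    apply pullback.hom_ext
    · refine Eq.trans ?_ (pullbackLeftPullbackSndIso_hom_fst X.hom t T.hom).symm
      have h1 : (cmp t X T).left ≫ pullback.fst _ _ = (cmp t X T ≫ fst _ _).left := rfl
      rw [h1, cmp, lift_fst]
      rfl
    · refine Eq.trans ?_ (pullbackLeftPullbackSndIso_hom_snd X.hom t T.hom).symm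
      have h1 : (cmp t X T).left ≫ pullback.snd _ _ = (cmp t X T ≫ snd _ _).left := rfl
      rw [h1, cmp, lift_snd]
      rfl
  have : IsIso ((Over.forget S).map (cmp t X T)) := by
    change IsIso (cmp t X T).left
    rw [h]
    infer_instance
  exact isIso_of_reflects_iso _ (Over.forget S)

theorem map_whisker_cmp (X : Over S) {T T' : Over B} (u : T' ⟶ T) :
    (Over.map t).map ((Over.pullback t).obj X ◁ u) ≫ cmp t X T = cmp t X T' ≫ (X ◁ (Over.map t).map u) := by
  rw [cmp, cmp]
  ext1
  · rw [Category.assoc, lift_fst, Category.assoc, whiskerLeft_fst, lift_fst, ← low_comp, whiskerLeft_fst]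
  · rw [Category.assoc, lift_snd, Category.assoc, whiskerLeft_snd, lift_snd_assoc, ← Functor.map_comp,
      whiskerLeft_snd, Functor.map_comp]

end Adj

/-- The automorphism scheme is unramified if the fibres have no derivation. -/
theorem formallyUnramified {S : Scheme.{u}} {X G : Over S} [GrpObj G] [LocallyOfFiniteType G.hom]
    (a : AlgGrp.Action G X) (hG : Represents X G a)
    (hC : ∀ s : S, CompactSpace (X.hom.fiber s)) (hN : ∀ s : S, IsLocallyNoetherian (X.hom.fiber s))
    (hD : ∀ (s : S) (D : OmegaSh.Der (X.hom.fiberToSpecResidueField s) (Coh.structureModule (X.hom.fiber s)))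
      (U : (X.hom.fiber s).Opens) (x : Γ(X.hom.fiber s, U)), D.app U x = 0) : FormallyUnramified G.hom := by
  refine Groth.Agent.UnramA.FibreFlat.formallyUnramified_of_fiberToSpecResidueField G.hom fun s => ?_
  let t : Spec (.of (S.residueField s)) ⟶ S := S.fromSpecResidueField s
  have : LocallyOfFiniteType ((Over.pullback t).obj G).hom :=
    inferInstanceAs (LocallyOfFiniteType (pullback.snd G.hom t))
  refine K936.Unram.formallyUnramified_of_tangent ((Over.pullback t).obj G) fun τ hτ => ?_
  refine low_injective t ?_
  rw [low_one]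
  refine K936.Fam.famOf_injective a hG ?_
  rw [K936.Fam.famOf_one]
  have hc := isIso_cmp t X (specT (K := S.residueField s) (S.residueField s))
  have hX1 : CompactSpace ((Over.pullback t).obj X).left := hC s
  have hX2 : IsLocallyNoetherian ((Over.pullback t).obj X).left := hN s
  rw [← cancel_epi (cmp t X (specT (K := S.residueField s) (S.residueField s)))]
  let φ : (Over.pullback t).obj X ⊗ specT (K := S.residueField s) (S.residueField s) ⟶ (Over.pullback t).obj X :=
    (Over.mapPullbackAdj t).homEquiv _ _ (cmp t X _ ≫ famOf a (low t τ))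
  have hφ : low t φ = cmp t X _ ≫ famOf a (low t τ) := Equiv.symm_apply_apply _ _
  have key := K936.TanDer.eq_fst_of_der (X := (Over.pullback t).obj X) (hD s) φ ?_
  · rw [← hφ, key, cmp, lift_fst]
  · refine low_injective t ?_
    rw [low_comp, hφ, ← Category.assoc, map_whisker_cmp, Category.assoc]
    have h1 : (X ◁ (Over.map t).map (specT0 (K := S.residueField s) (S.residueField s))) ≫ famOf a (low t τ) =
        fst X _ := by
      refine (famOf_comp a _ _).symm.trans ?_
      rw [← low_comp, hτ]
      have h2 := low_one t (T := 𝟙_ (Over (Spec (.of (S.residueField s))))) (G := G)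
      rw [toUnit_unit, Category.id_comp] at h2
      rw [h2, K936.Fam.famOf_one]
    rw [h1, cmp, lift_fst]

end K903.AutUnr
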