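import Groth.Agent.VBCurve.K703.Stab
import Groth.Agent.Variety.K432.VB
import Groth.Agent.JacVar.K533.CurveBasic
import Groth.Agent.CurvesB.OmegaInv
import Groth.Agent.S1612
import Groth.Agent.S1535
import Groth.Agent.S1536
import Groth.Agent.S5005

/-!
# A smooth proper geometrically connected curve of genus at least two has no derivation
-/

set_option autoImplicit false
universe u
open CategoryTheory CategoryTheory.Limits AlgebraicGeometry

namespace K903.NoDer

open Groth.Agent Groth.Agent.VarietyA.DegRank K707.Base K707.Deg K707.Slope K707.Semi K703.Stab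

variable {k : Type u} [Field k]

theorem hom_omega_eq_zero {C : Scheme.{u}} [C.Over (Spec (CommRingCat.of k))] [IsProper (C ↘ Spec (CommRingCat.of k))]
    [Smooth (C ↘ Spec (CommRingCat.of k))] [GeometricallyConnected (C ↘ Spec (CommRingCat.of k))]
    (hdim : topologicalKrullDim C = 1) (hg : 2 ≤ Curv2.genus k C)
    (φ : Omega.sheaf (C ↘ Spec (CommRingCat.of k)) ⟶ Coh.structureModule C) : φ = 0 := by
  have hC := K533.CurveBasic.isSmoothProperCurve (C ↘ Spec (CommRingCat.of k)) hdim
  have hint : IsIntegral C := hC.2.2.1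
  have hgi := K533.CurveBasic.geometricallyIntegral (C ↘ Spec (CommRingCat.of k))
  have h0 := S1536.result k C
  have hdeg := (S1612.result k C hC h0).2
  have hcrv := K432.VB.crv_of_regular k C hdim (S1535.result k C)
  by_contra hφ
  have hinv : PicF.IsInvertible (Omega.sheaf (C ↘ Spec (CommRingCat.of k))) :=
    CurvesB.OmegaInv.isInvertible_omega _ hdim
  have hO : PicF.IsInvertible (Coh.structureModule C) := Fdesc.LocGen.isInvertible_structureModule
  have h1 := slope_le_of_hom hcrv (ss_of_inv hcrv hinv) (vb_of_inv hinv) hO φ hφ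
  rw [rk_of_inv hinv, dg_of_inv hinv, dg_of_inv hO, hdeg] at h1
  have h2 : Curv2.deg k C (Coh.structureModule C) 1 = 0 := by
    unfold Curv2.deg
    ring
  rw [h2] at h1
  push_cast at h1
  omega

theorem noDer {C : Scheme.{u}} (f : C ⟶ Spec (CommRingCat.of k)) [IsProper f] [Smooth f] [GeometricallyConnected f]
    (hdim : topologicalKrullDim C = 1)
    (hg : letI : C.Over (Spec (CommRingCat.of k)) := ⟨f⟩; 2 ≤ Curv2.genus k C)
    (D : OmegaSh.Der f (Coh.structureModule C)) (U : C.Opens) (s : Γ(C, U)) : D.app U s = 0 := by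
  let _ : C.Over (Spec (CommRingCat.of k)) := ⟨f⟩
  obtain ⟨α, hα, -⟩ := S5005.result f _ D
  have h1 : α = 0 := by
    have : IsProper (C ↘ Spec (CommRingCat.of k)) := ‹IsProper f›
    have : Smooth (C ↘ Spec (CommRingCat.of k)) := ‹Smooth f›
    have : GeometricallyConnected (C ↘ Spec (CommRingCat.of k)) := ‹GeometricallyConnected f›
    exact hom_omega_eq_zero hdim hg α
  rw [← hα, h1]
  rfl

end K903.NoDer
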